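/-
Splitting elements of prime order acting on abelian normal subgroups.
-/
import Cfsg.Agent.Lib.ThreeOrbit.Group

set_option autoImplicit false

namespace CfsgLib.Splitting

open CfsgLib.ThreeOrbit
open scoped IsMulCommutative

universe u

variable {G : Type u} [Group G]

theorem conjEnd_one {r : ℕ} (W : Subgroup G) [W.Normal] [IsMulCommutative W]
    [Module (ZMod r) (Additive W)] : conjEnd r W (1 : G) = 1 :=
  LinearMap.ext fun v => Additive.toMul.injective (Subtype.ext (by
    rw [conjEnd_apply, Module.End.one_apply]; group))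

theorem conjEnd_npow {r : ℕ} (W : Subgroup G) [W.Normal] [IsMulCommutative W]
    [Module (ZMod r) (Additive W)] (g : G) (n : ℕ) : conjEnd r W (g ^ n) = conjEnd r W g ^ n := by
  induction n with
  | zero => rw [pow_zero, pow_zero, conjEnd_one]
  | succ n ih => rw [pow_succ, pow_succ, conjEnd_comp, ih]

theorem sum_conjEnd_mul_pow {r : ℕ} (W : Subgroup G) [W.Normal] [IsMulCommutative W]
    [Module (ZMod r) (Additive W)] (g : G) (v : Additive W) (n : ℕ) :
    ((Additive.toMul ((∑ k ∈ Finset.range n, conjEnd r W g ^ k) v) : W) : G) * g ^ n =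
      (((Additive.toMul v : W) : G) * g) ^ n := by
  induction n with
  | zero => simp
  | succ n ih =>
    rw [Finset.sum_range_succ, LinearMap.add_apply, toMul_add, Subgroup.coe_mul,
      pow_succ (_ * g), ← ih, conjEnd_pow, pow_succ g n]
    group

/-- If `(w * g) ^ p = 1` for all `w ∈ W`, where `g ^ p = 1`, the norm of `g` on `W` is zero. -/
theorem sum_conjEnd_eq_zero {r p : ℕ} (W : Subgroup G) [W.Normal] [IsMulCommutative W]
    [Module (ZMod r) (Additive W)] (g : G) (hg : g ^ p = 1) (h : ∀ w ∈ W, (w * g) ^ p = 1) :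
    ∑ k ∈ Finset.range p, conjEnd r W g ^ k = 0 := by
  refine LinearMap.ext fun v => Additive.toMul.injective (Subtype.ext ?_)
  have := sum_conjEnd_mul_pow (r := r) W g v p
  rw [hg, mul_one, h _ (Additive.toMul v).2] at this
  exact this

/-- A splitting element of prime order centralizes, on an elementary abelian normal subgroup, the
coprime groups it normalizes. -/
theorem le_centralizer_of_splitting [Finite G] {p r : ℕ} [Fact p.Prime] [Fact r.Prime]
    (W : Subgroup G) [W.Normal] [IsMulCommutative W] (hexp : ∀ a ∈ W, a ^ r = 1) (R : Subgroup G)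
    (y : G) (hy : y ∈ Subgroup.normalizer (R : Set G)) (hr : ¬ r ∣ Nat.card R)
    (hRy : ∀ u ∈ R, (u * y) ^ p = 1) (hW : ∀ u ∈ R, ∀ w ∈ W, (w * (u * y)) ^ p = 1) :
    R ≤ Subgroup.centralizer (W : Set G) := by
  classical
  have hexp' := exp_nsmul r W hexp
  letI := expModule r W hexp'
  have _ := Fintype.ofFinite R
  have hp : p.Prime := Fact.out
  have hyp : y ^ p = 1 := by simpa using hRy 1 R.one_mem
  set S : Module.End (ZMod r) (Additive W) := ∑ u : R, conjEnd r W (u : G) with hS
  -- the coset map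
  have hmem : ∀ (k : ℕ) (u : G), u ∈ R → (u * y) ^ k * (y ^ k)⁻¹ ∈ R := by
    intro k
    induction k with
    | zero => intro u _; simp
    | succ k ih =>
      intro u hu
      have h1 : (u * y) ^ (k + 1) * (y ^ (k + 1))⁻¹ =
          u * (y * ((u * y) ^ k * (y ^ k)⁻¹) * y⁻¹) := by
        rw [pow_succ', pow_succ']; group
      rw [h1]
      exact R.mul_mem hu ((Subgroup.mem_normalizer_iff.mp hy _).mp (ih u hu))
  have hsum : ∀ k, 0 < k → k < p →
      ∑ u : R, conjEnd r W ((u : G) * y) ^ k = S * conjEnd r W y ^ k := by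
    intro k hk hkp
    have hnd : ¬ p ∣ k := fun h => (Nat.le_of_dvd hk h).not_gt hkp
    obtain ⟨m, -, hm⟩ := Nat.exists_mul_mod_eq_one_of_coprime
      ((hp.coprime_iff_not_dvd.mpr hnd).symm) hp.one_lt
    let f : R → R := fun u => ⟨((u : G) * y) ^ k * (y ^ k)⁻¹, hmem k u u.2⟩
    have hf : Function.Injective f := by
      intro a b hab
      have h1 : ((a : G) * y) ^ k = ((b : G) * y) ^ k :=
        mul_right_cancel (congrArg Subtype.val hab)
      have h2 : ∀ u : R, (((u : G) * y) ^ k) ^ m = (u : G) * y := fun u => by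
        rw [← pow_mul, ← Nat.mod_add_div (k * m) p, hm, pow_add, pow_mul, hRy u u.2, one_pow,
          mul_one, pow_one]
      have := congrArg (· ^ m) h1
      simp only [h2] at this
      exact Subtype.ext (mul_right_cancel this)
    have h3 : ∀ u : R, conjEnd r W ((u : G) * y) ^ k =
        conjEnd r W ((f u : R) : G) * conjEnd r W y ^ k := fun u => by
      rw [← conjEnd_npow, ← conjEnd_npow, ← conjEnd_comp]
      congr 1
      simp [f]
    rw [Finset.sum_congr rfl fun u _ => h3 u, ← Finset.sum_mul,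
      Fintype.sum_bijective f (Finite.injective_iff_bijective.mp hf) _ (fun u => conjEnd r W (u : G))
        fun u => rfl]
  have hzero : ∑ k ∈ Finset.range p, ∑ u : R, conjEnd r W ((u : G) * y) ^ k = 0 := by
    rw [Finset.sum_comm]
    exact Finset.sum_eq_zero fun u _ => sum_conjEnd_eq_zero W _ (hRy u u.2) (hW u u.2)
  have hy0 : ∑ k ∈ Finset.range p, conjEnd r W y ^ k = 0 :=
    sum_conjEnd_eq_zero W y hyp fun w hw => by simpa using hW 1 R.one_mem w hw
  obtain ⟨n, rfl⟩ : ∃ n, p = n + 1 := ⟨p - 1, (Nat.succ_pred_eq_of_pos hp.pos).symm⟩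
  rw [Finset.sum_range_succ'] at hzero hy0
  have h4 : ∑ k ∈ Finset.range n, ∑ u : R, conjEnd r W ((u : G) * y) ^ (k + 1) =
      S * ∑ k ∈ Finset.range n, conjEnd r W y ^ (k + 1) := by
    rw [Finset.mul_sum]
    exact Finset.sum_congr rfl fun k hk =>
      hsum (k + 1) k.succ_pos (Nat.succ_lt_succ (Finset.mem_range.mp hk))
  rw [h4, eq_neg_of_add_eq_zero_left hy0] at hzero
  simp only [pow_zero, mul_neg, mul_one, Finset.sum_const, Finset.card_univ] at hzero
  have hScard : S = Fintype.card R • (1 : Module.End (ZMod r) (Additive W)) := by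
    rw [neg_add_eq_zero] at hzero; exact hzero
  intro u hu
  have hu' : conjEnd r W u * S = S := by
    rw [hS, Finset.mul_sum]
    exact Fintype.sum_bijective (fun w : R => ⟨u, hu⟩ * w) (Group.mulLeft_bijective _) _ _
      fun w => by rw [← conjEnd_comp]; rfl
  rw [hScard, mul_smul_comm, mul_one] at hu'
  rw [Subgroup.mem_centralizer_iff]
  intro w hw
  have h5 := LinearMap.congr_fun hu' (Additive.ofMul (⟨w, hw⟩ : W))
  rw [LinearMap.smul_apply, LinearMap.smul_apply, Module.End.one_apply, ← Nat.cast_smul_eq_nsmul (ZMod r),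
    ← Nat.cast_smul_eq_nsmul (ZMod r)] at h5
  have hne : (Fintype.card R : ZMod r) ≠ 0 := fun h =>
    hr (by rw [Nat.card_eq_fintype_card]; exact (ZMod.natCast_eq_zero_iff _ r).mp h)
  have h6 := (IsUnit.smul_left_cancel (Ne.isUnit hne)).mp h5
  have h7 := congrArg (fun v => ((Additive.toMul v : W) : G)) h6
  simp only [conjEnd_apply, toMul_ofMul] at h7
  exact (mul_inv_eq_iff_eq_mul.mp h7).symm

end CfsgLib.Splitting
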