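/-
Kegel's theorem: a finite group with a splitting automorphism of prime order is nilpotent.
-/
import Cfsg.Agent.Lib.Splitting.Action
import Cfsg.Agent.S0108
import Cfsg.Agent.Lib.Transfer.Hall

set_option autoImplicit false

namespace CfsgLib.Splitting

open scoped IsMulCommutative

universe u

/-- The property that the nilpotency theorem asserts in order `n`. -/
def SplitNilp (p n : ℕ) : Prop :=
  ∀ (G : Type u) [Group G] [Finite G] (H : Subgroup G) (y : G), Nat.card H = n →
    y ∈ Subgroup.normalizer (H : Set G) → (∀ h ∈ H, (h * y) ^ p = 1) → Group.IsNilpotent H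

theorem isNilpotent_congr {A B : Type*} [Group A] [Group B] (e : A ≃* B) (h : Group.IsNilpotent A) :
    Group.IsNilpotent B := by
  have := h
  exact Group.nilpotent_of_mulEquiv e

theorem isNilpotent_of_sylow_normal {A : Type*} [Group A] [Finite A]
    (h : ∀ (r : ℕ), r.Prime → ∀ P : Sylow r A, (P : Subgroup A).Normal) : Group.IsNilpotent A :=
  ((Group.isNilpotent_of_finite_tfae (G := A)).out 0 3).mpr fun r (hr : Fact r.Prime) P => h r hr.out P

theorem sylow_normal_of_isNilpotent {A : Type*} [Group A] [Finite A] (h : Group.IsNilpotent A)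
    {r : ℕ} [Fact r.Prime] (P : Sylow r A) : (P : Subgroup A).Normal :=
  have := h
  CfsgLib.Transfer.sylow_normal_of_isNilpotent P

theorem hasNPC_of_isNilpotent {A : Type*} [Group A] [Finite A] (h : Group.IsNilpotent A)
    (r : ℕ) [Fact r.Prime] : Cfsg.HasNormalPComplement r A := by
  have := h
  let P : Sylow r A := default
  have := sylow_normal_of_isNilpotent h P
  have : Group.IsNilpotent (P : Subgroup A) := P.isPGroup'.isNilpotent
  obtain ⟨N, hN, hc⟩ := CfsgLib.Transfer.exists_normal_complement_of_no_fusion (P : Subgroup A)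
    P.card_coprime_index (fun x hx g _ => by
    have hg : g ∈ (P : Subgroup A) ⊔ Subgroup.centralizer ((P : Subgroup A) : Set A) :=
      CfsgLib.Transfer.sylow_sup_centralizer_eq_top P ▸ Subgroup.mem_top g
    rw [Subgroup.mem_sup_of_normal_left] at hg
    obtain ⟨k, hk, c, hc, rfl⟩ := hg
    refine ⟨k, hk, ?_⟩
    calc k * x * k⁻¹ = k * (x * c) * c⁻¹ * k⁻¹ := by group
      _ = k * (c * x) * c⁻¹ * k⁻¹ := by rw [Subgroup.mem_centralizer_iff.mp hc x hx]
      _ = _ := by group)
  exact ⟨P, N, hN, hc⟩

theorem map_thompsonSubgroup {A : Type*} [Group A] (r : ℕ) (φ : A ≃* A) :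
    (Cfsg.thompsonSubgroup r A).map φ.toMonoidHom = Cfsg.thompsonSubgroup r A := by
  have key : ∀ φ : A ≃* A, (Cfsg.thompsonSubgroup r A).map φ.toMonoidHom ≤
      Cfsg.thompsonSubgroup r A := by
    intro φ
    rw [Cfsg.thompsonSubgroup, Subgroup.map_le_iff_le_comap]
    refine sSup_le fun B hB => ?_
    rw [← Subgroup.map_le_iff_le_comap]
    have hel : ∀ (ψ : A ≃* A) (C : Subgroup A), Cfsg.IsElementaryAbelian r C →
        Cfsg.IsElementaryAbelian r (C.map ψ.toMonoidHom) := by
      rintro ψ C ⟨hc, he⟩
      have := hc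
      exact ⟨Subgroup.map_isMulCommutative C _, by
        rintro _ ⟨a, ha, rfl⟩; rw [← map_pow, he a ha, map_one]⟩
    refine le_sSup ⟨hel φ B hB.1, fun C hC => ?_⟩
    rw [Nat.card_congr (B.equivMapOfInjective _ φ.injective).toEquiv.symm]
    exact hB.2 C hC
  refine le_antisymm (key φ) ?_
  intro a ha
  exact ⟨φ.symm a, key φ.symm (Subgroup.mem_map_of_mem _ ha), φ.apply_symm_apply a⟩

instance thompsonSubgroup_char {A : Type*} [Group A] (r : ℕ) :
    (Cfsg.thompsonSubgroup r A).Characteristic :=
  Subgroup.characteristic_iff_map_eq.mpr (map_thompsonSubgroup r)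

theorem map_characteristic {A B : Type*} [Group A] [Group B] (e : A ≃* B) (T : Subgroup A)
    [T.Characteristic] : (T.map e.toMonoidHom).Characteristic := by
  rw [Subgroup.characteristic_iff_map_le]
  rintro φ _ ⟨_, ⟨a, ha, rfl⟩, rfl⟩
  have h : (e.trans (φ.trans e.symm)) a ∈ T :=
    (Subgroup.characteristic_iff_map_le.mp ‹_› (e.trans (φ.trans e.symm)))
      (Subgroup.mem_map_of_mem _ ha)
  exact ⟨_, h, by simp⟩

/-- Conjugating a normal series: an element of `H * y` normalizing a given Sylow subgroup of `H`. -/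
theorem exists_translate {G : Type u} [Group G] [Finite G] {p r : ℕ} [Fact r.Prime] (H : Subgroup G)
    [H.Normal] (x : G) (hx : ∀ h ∈ H, (h * x) ^ p = 1) (R : Sylow r H) :
    ∃ y : G, y * x⁻¹ ∈ H ∧ (∀ h ∈ H, (h * y) ^ p = 1) ∧
      y ∈ Subgroup.normalizer (((R : Subgroup H).map H.subtype : Subgroup G) : Set G) := by
  have h1 := Sylow.normalizer_sup_eq_top R
  have hxm : x ∈ Subgroup.normalizer (((R : Subgroup H).map H.subtype : Subgroup G) : Set G) ⊔ H :=
    h1 ▸ Subgroup.mem_top x
  rw [Subgroup.mem_sup_of_normal_right] at hxm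
  obtain ⟨n, hn, h, hh, hnh⟩ := hxm
  subst hnh
  refine ⟨n, ?_, fun k hk => ?_, hn⟩
  · have : n * (n * h)⁻¹ = n * h⁻¹ * n⁻¹ := by group
    rw [this]
    exact Subgroup.Normal.conj_mem ‹_› _ (H.inv_mem hh) n
  · have : k * n = (k * (n * h⁻¹ * n⁻¹)) * (n * h) := by group
    rw [this]
    exact hx _ (H.mul_mem hk (Subgroup.Normal.conj_mem ‹_› _ (H.inv_mem hh) n))

variable {G : Type u} [Group G] [Finite G] {p : ℕ} [Fact p.Prime]

theorem step_abelian (H : Subgroup G) [H.Normal] (x : G) (hx : ∀ h ∈ H, (h * x) ^ p = 1)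
    {r : ℕ} [Fact r.Prime] (U : Subgroup G) [U.Normal] [IsMulCommutative U] (hUH : U ≤ H)
    (hexp : ∀ a ∈ U, a ^ r = 1) (hquot : Group.IsNilpotent (↥(H.map (QuotientGroup.mk' U)))) :
    Group.IsNilpotent H := by
  refine isNilpotent_of_sylow_normal fun s hs R => ?_
  have := Fact.mk hs
  set f : H →* ↥(H.map (QuotientGroup.mk' U)) := (QuotientGroup.mk' U).subgroupMap H with hf
  have hfs : Function.Surjective f := (QuotientGroup.mk' U).subgroupMap_surjective H
  have hker : f.ker = U.subgroupOf H := by
    ext a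
    rw [MonoidHom.mem_ker, Subgroup.mem_subgroupOf]
    constructor
    · intro h; exact (QuotientGroup.eq_one_iff (a : G)).mp (congrArg Subtype.val h)
    · intro h; exact Subtype.ext ((QuotientGroup.eq_one_iff (a : G)).mpr h)
  have hbar : ((R : Subgroup H) ⊔ U.subgroupOf H).Normal := by
    have h1 : ((R.mapSurjective hfs : Sylow s ↥(H.map (QuotientGroup.mk' U))) : Subgroup ↥(H.map (QuotientGroup.mk' U))).Normal :=
      sylow_normal_of_isNilpotent hquot (R.mapSurjective hfs)
    have h2 := h1.comap f
    rwa [Sylow.coe_mapSurjective, Subgroup.comap_map_eq, hker] at h2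
  by_cases hsr : s = r
  · subst hsr
    have hUle : U.subgroupOf H ≤ (R : Subgroup H) := by
      have hp : IsPGroup s (U.subgroupOf H) := fun a => ⟨1, Subtype.ext (Subtype.ext (by
        simpa using hexp _ a.2))⟩
      obtain ⟨Q, hQ⟩ := hp.exists_le_sylow
      obtain ⟨g, hg⟩ := MulAction.exists_smul_eq H Q R
      rw [← hg, Sylow.coe_subgroup_smul]
      intro a ha
      rw [Subgroup.mem_pointwise_smul_iff_inv_smul_mem]
      exact hQ (by
        rw [← map_inv, MulAut.smul_def, MulAut.conj_apply]
        exact (inferInstance : (U.subgroupOf H).Normal).conj_mem a ha g⁻¹)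
    rwa [sup_eq_left.mpr hUle] at hbar
  · obtain ⟨y, hyx, hy, hyR⟩ := exists_translate H x hx R
    have hcent : (R : Subgroup H).map H.subtype ≤ Subgroup.centralizer (U : Set G) := by
      refine le_centralizer_of_splitting (p := p) U hexp _ y hyR ?_ ?_ ?_
      · intro hd
        rw [Nat.card_congr ((R : Subgroup H).equivMapOfInjective H.subtype H.subtype_injective).toEquiv.symm] at hd
        obtain ⟨k, hk⟩ := IsPGroup.iff_card.mp R.isPGroup'
        rw [hk] at hd
        exact hsr ((Nat.prime_dvd_prime_iff_eq Fact.out Fact.out).mp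
          ((Fact.out : r.Prime).dvd_of_dvd_pow hd)).symm
      · rintro _ ⟨u, _, rfl⟩
        exact hy _ u.2
      · rintro _ ⟨u, _, rfl⟩ w hw
        rw [← mul_assoc]
        exact hy _ (H.mul_mem (hUH hw) u.2)
    -- `R` is normal in `R ⊔ U`, hence in `H`
    have hnorm : (R : Subgroup H) ⊔ U.subgroupOf H ≤
        Subgroup.normalizer ((R : Subgroup H) : Set H) := by
      refine sup_le Subgroup.le_normalizer fun a ha => ?_
      refine Subgroup.centralizer_le_normalizer _ (Subgroup.mem_centralizer_iff.mpr fun u hu => ?_)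
      exact Subtype.ext ((Subgroup.mem_centralizer_iff.mp
        (hcent (Subgroup.mem_map_of_mem _ hu)) a ha).symm)
    have hRle : (R : Subgroup H) ≤ (R : Subgroup H) ⊔ U.subgroupOf H := le_sup_left
    have := hbar
    have htop := Sylow.normalizer_sup_eq_top (R.subtype hRle)
    have hmap : ((R.subtype hRle : Subgroup _)).map ((R : Subgroup H) ⊔ U.subgroupOf H).subtype =
        (R : Subgroup H) := by
      rw [Sylow.coe_subtype, Subgroup.map_subgroupOf_eq_of_le hRle]
    rw [hmap] at htop
    exact Subgroup.normalizer_eq_top_iff.mp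
      (eq_top_iff.mpr (htop ▸ sup_le le_rfl hnorm))

theorem step (n : ℕ) (ih : ∀ m < n, SplitNilp.{u} p m) (H : Subgroup G) [H.Normal] (x : G)
    (hn : Nat.card H = n) (hx : ∀ h ∈ H, (h * x) ^ p = 1) (hgen : H ⊔ Subgroup.zpowers x = ⊤) :
    Group.IsNilpotent H := by
  classical
  by_cases hA : ∃ (r : ℕ) (_ : Fact r.Prime) (U : Subgroup G), U.Normal ∧ U ≤ H ∧ U ≠ ⊥ ∧
      IsPGroup r U
  · obtain ⟨r, hr, U, hU, hUH, hUne, hUp⟩ := hA
    have := hU
    have : Nontrivial U := (Subgroup.nontrivial_iff_ne_bot U).mpr hUne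
    have := hUp.center_nontrivial
    set Z := (Subgroup.center U).map U.subtype with hZ
    have hZcomm : ∀ a ∈ Z, ∀ b ∈ Z, a * b = b * a := by
      rintro _ ⟨a, ha, rfl⟩ _ ⟨b, _, rfl⟩
      exact (congrArg Subtype.val (Subgroup.mem_center_iff.mp ha b)).symm
    have hZn : Z.Normal := CfsgLib.PSolvable.normal_map_of_characteristic U (Subgroup.center U)
    let W : Subgroup G :=
      { carrier := {a | a ∈ Z ∧ a ^ r = 1}
        one_mem' := ⟨Z.one_mem, one_pow r⟩
        mul_mem' := fun {a b} ha hb => ⟨Z.mul_mem ha.1 hb.1, by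
          rw [(show Commute a b from hZcomm a ha.1 b hb.1).mul_pow, ha.2, hb.2, mul_one]⟩
        inv_mem' := fun {a} ha => ⟨Z.inv_mem ha.1, by rw [inv_pow, ha.2, inv_one]⟩ }
    have hWn : W.Normal := ⟨fun a ha g => ⟨hZn.conj_mem a ha.1 g, by
      rw [conj_pow, ha.2]; group⟩⟩
    have hWc : IsMulCommutative W := ⟨⟨fun a b => Subtype.ext (hZcomm a a.2.1 b b.2.1)⟩⟩
    have hWH : W ≤ H := fun a ha => hUH ((Subgroup.map_subtype_le _) ha.1)
    have hWne : W ≠ ⊥ := by
      obtain ⟨z, hz⟩ := exists_ne (1 : Subgroup.center U)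
      have hzr : r ∣ orderOf ((z : U) : G) := by
        obtain ⟨k, hk⟩ := hUp (z : U)
        have h1 : orderOf ((z : U) : G) ∣ r ^ k :=
          orderOf_dvd_of_pow_eq_one (by simpa using congrArg Subtype.val hk)
        obtain ⟨j, -, hj⟩ := (Nat.dvd_prime_pow hr.out).mp h1
        rcases j with _ | j
        · exact absurd (orderOf_eq_one_iff.mp (by simpa using hj))
            (fun e => hz (Subtype.ext (Subtype.ext e)))
        · exact hj ▸ dvd_pow_self r j.succ_ne_zero
      intro hb
      have hmem : ((z : U) : G) ^ (orderOf ((z : U) : G) / r) ∈ W :=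
        ⟨Z.pow_mem (Subgroup.mem_map_of_mem _ z.2) _, by
          rw [← pow_mul, Nat.div_mul_cancel hzr, pow_orderOf_eq_one]⟩
      rw [hb, Subgroup.mem_bot] at hmem
      have hlt : orderOf ((z : U) : G) / r < orderOf ((z : U) : G) :=
        Nat.div_lt_self (orderOf_pos _) hr.out.one_lt
      refine pow_ne_one_of_lt_orderOf ?_ hlt hmem
      exact (Nat.div_pos (Nat.le_of_dvd (orderOf_pos _) hzr) hr.out.pos).ne'
    refine step_abelian H x hx W hWH (fun a ha => ha.2) ?_
    refine ih _ ?_ (G ⧸ W) (H.map (QuotientGroup.mk' W)) (QuotientGroup.mk x) rfl ?_ ?_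
    · have h1 : Nat.card (H.map (QuotientGroup.mk' W)) = Nat.card H / Nat.card W := by
        refine (Nat.div_eq_of_eq_mul_left Nat.card_pos ?_).symm
        rw [← Subgroup.relIndex_mul_relIndex ⊥ W H bot_le hWH |>.trans (Subgroup.relIndex_bot_left H),
          Subgroup.relIndex_bot_left, mul_comm, ← Subgroup.relIndex_ker, QuotientGroup.ker_mk']
      rw [h1, hn]
      exact Nat.div_lt_self (hn ▸ Nat.card_pos) ((Subgroup.one_lt_card_iff_ne_bot _).mpr hWne)
    · have : (H.map (QuotientGroup.mk' W)).Normal :=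
        Subgroup.Normal.map ‹_› _ (QuotientGroup.mk'_surjective W)
      rw [Subgroup.normalizer_eq_top]; exact Subgroup.mem_top _
    · rintro _ ⟨h, hh, rfl⟩
      show (QuotientGroup.mk' W h * QuotientGroup.mk' W x) ^ p = 1
      rw [← map_mul, ← map_pow, hx h hh, map_one]
  push Not at hA
  by_cases h2 : ∀ r : ℕ, r.Prime → r ∣ Nat.card H → r = 2
  · have hp2 : IsPGroup 2 H := by
      intro a
      have := Fact.mk Nat.prime_two
      refine ⟨(orderOf a).factorization 2, ?_⟩
      have : orderOf a = 2 ^ (orderOf a).factorization 2 :=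
        (Nat.eq_prime_pow_of_unique_prime_dvd (orderOf_pos a).ne' fun {d} hd hdd =>
          h2 d hd (hdd.trans (orderOf_dvd_natCard a))).trans (by
            congr 1
            rw [← Nat.primeFactorsList_count_eq]
            rw [List.count_eq_length.mpr]
            intro b hb
            exact (h2 b (Nat.prime_of_mem_primeFactorsList hb)
              ((Nat.dvd_of_mem_primeFactorsList hb).trans (orderOf_dvd_natCard a))).symm)
      exact orderOf_dvd_iff_pow_eq_one.mp (dvd_of_eq this)
    have := Fact.mk Nat.prime_two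
    exact hp2.isNilpotent
  push Not at h2
  obtain ⟨r, hr, hrd, hr2⟩ := h2
  have := Fact.mk hr
  let R : Sylow r H := default
  obtain ⟨y, hyx, hy, hyR⟩ := exists_translate H x hx R
  have hRne : (R : Subgroup H) ≠ ⊥ := R.ne_bot_of_dvd_card hrd
  -- local subgroups
  have hloc : ∀ T : Subgroup H, IsPGroup r T → T ≠ ⊥ →
      y ∈ Subgroup.normalizer ((T.map H.subtype : Subgroup G) : Set G) →
      Group.IsNilpotent ↥(Subgroup.normalizer (T : Set H)) := by
    intro T hTp hT hyT
    have hlt : Subgroup.normalizer (T : Set H) ≠ ⊤ := by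
      intro htop
      have hTn : (T.map H.subtype).Normal := by
        rw [← Subgroup.normalizer_eq_top_iff, eq_top_iff, ← hgen]
        have hH : H ≤ Subgroup.normalizer ((T.map H.subtype : Subgroup G) : Set G) := by
          intro a ha
          have : (⟨a, ha⟩ : H) ∈ Subgroup.normalizer (T : Set H) := htop ▸ Subgroup.mem_top _
          exact Subgroup.le_normalizer_map H.subtype (Subgroup.mem_map_of_mem _ this)
        refine sup_le hH ((Subgroup.zpowers_le).mpr ?_)
        have : x = (y * x⁻¹)⁻¹ * y := by group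
        rw [this]
        exact Subgroup.mul_mem _ (hH (H.inv_mem hyx)) hyT
      exact hA r inferInstance _ hTn (Subgroup.map_subtype_le _)
        (fun h => hT ((Subgroup.map_eq_bot_iff_of_injective _ H.subtype_injective).mp h))
        (hTp.map H.subtype)
    set N := (Subgroup.normalizer (T : Set H)).map H.subtype with hN
    have hNe : N = H ⊓ Subgroup.normalizer ((T.map H.subtype : Subgroup G) : Set G) := by
      ext a
      constructor
      · rintro ⟨b, hb, rfl⟩
        exact ⟨b.2, Subgroup.le_normalizer_map H.subtype (Subgroup.mem_map_of_mem _ hb)⟩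
      · rintro ⟨ha, ha'⟩
        refine ⟨⟨a, ha⟩, ?_, rfl⟩
        rw [SetLike.mem_coe, Subgroup.mem_normalizer_iff]
        intro t
        have := Subgroup.mem_normalizer_iff.mp ha' (t : G)
        have hk : ∀ b : H, (b : G) ∈ T.map H.subtype ↔ b ∈ T := fun b =>
          Subgroup.mem_map_iff_mem H.subtype_injective
        rw [← hk, ← hk]
        exact this
    have hyN : y ∈ Subgroup.normalizer (N : Set G) := by
      rw [Subgroup.mem_normalizer_iff]
      intro a
      rw [hNe, Subgroup.mem_inf, Subgroup.mem_inf]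
      refine and_congr ?_ ?_
      · exact ⟨fun h => Subgroup.Normal.conj_mem ‹_› a h y, fun h => by
          have := Subgroup.Normal.conj_mem ‹_› _ h y⁻¹
          rwa [show y⁻¹ * (y * a * y⁻¹) * y⁻¹⁻¹ = a by group] at this⟩
      · exact Subgroup.mem_normalizer_iff.mp (Subgroup.le_normalizer hyT) a
    have hcard : Nat.card N < n := by
      rw [hN, Nat.card_congr ((Subgroup.normalizer (T : Set H)).equivMapOfInjective H.subtype
        H.subtype_injective).toEquiv.symm, ← hn]
      exact lt_of_le_of_ne (Subgroup.card_le_card_group _)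
        (fun e => hlt (Subgroup.eq_top_of_card_eq _ e))
    exact isNilpotent_congr ((Subgroup.normalizer (T : Set H)).equivMapOfInjective H.subtype
      H.subtype_injective).symm (ih _ hcard G N y rfl hyN fun h hh => hy h (hNe.le hh).1)
  have hsub : ∀ T : Subgroup R, T.Characteristic →
      y ∈ Subgroup.normalizer (((T.map (R : Subgroup H).subtype).map H.subtype : Subgroup G) : Set G) := by
    intro T hT
    have := map_characteristic ((R : Subgroup H).equivMapOfInjective H.subtype H.subtype_injective) T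
    have := CfsgLib.PSolvable.le_normalizer_map_of_characteristic
      (A := Subgroup.zpowers y) (H := (R : Subgroup H).map H.subtype) (Subgroup.zpowers_le.mpr hyR)
      (T.map ((R : Subgroup H).equivMapOfInjective H.subtype H.subtype_injective).toMonoidHom)
    have h := this (Subgroup.mem_zpowers y)
    rwa [Subgroup.map_map] at h ⊢
  have hnpc : Cfsg.HasNormalPComplement r H := by
    refine (Cfsg.Agent.S0108.result hr2 R).mpr ⟨?_, ?_⟩
    · refine hasNPC_of_isNilpotent (hloc _ ?_ ?_ ?_) r
      · exact R.isPGroup'.to_le (Subgroup.map_subtype_le _)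
      · rw [CfsgLib.Transfer.thompsonSubgroupOf_eq]
        exact CfsgLib.Transfer.thompsonJ_ne_bot dvd_rfl R.isPGroup' hRne
      · exact hsub _ inferInstance
    · have hZ : ((R : Subgroup H) ⊓ Subgroup.centralizer (R : Set H)) =
          (Subgroup.center (R : Subgroup H)).map (R : Subgroup H).subtype := by
        ext a
        constructor
        · rintro ⟨h1, h2⟩
          exact ⟨⟨a, h1⟩, Subgroup.mem_center_iff.mpr fun b =>
            Subtype.ext (Subgroup.mem_centralizer_iff.mp h2 b b.2), rfl⟩
        · rintro ⟨b, hb, rfl⟩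
          exact ⟨b.2, Subgroup.mem_centralizer_iff.mpr fun c hc =>
            congrArg Subtype.val (Subgroup.mem_center_iff.mp hb ⟨c, hc⟩)⟩
      refine CfsgLib.Transfer.hasNPC_of_le (Subgroup.centralizer_le_normalizer _) ?_
      refine hasNPC_of_isNilpotent (hloc _ (R.isPGroup'.to_le inf_le_left) ?_ ?_) r
      · rw [hZ]
        intro h
        rw [Subgroup.map_eq_bot_iff_of_injective _ (R : Subgroup H).subtype_injective] at h
        have : Nontrivial (R : Subgroup H) := (Subgroup.nontrivial_iff_ne_bot _).mpr hRne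
        exact R.isPGroup'.center_nontrivial.exists_pair_ne.elim fun a ⟨b, hab⟩ =>
          hab (by
            have := Subgroup.eq_bot_iff_forall _ |>.mp h
            exact Subtype.ext ((this a a.2).trans (this b b.2).symm))
      · rw [hZ]; exact hsub _ inferInstance
  obtain ⟨P, K, hK, hKP⟩ := hnpc
  by_cases hKb : K = ⊥
  · subst hKb
    have : (P : Subgroup H) = ⊤ := Subgroup.isComplement'_bot_left.mp hKP
    exact (P.isPGroup'.of_equiv (((Subgroup.topEquiv).symm.trans
      (MulEquiv.subgroupCongr this.symm)).symm)).isNilpotent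
  exfalso
  have := hK
  have hKchar : K.Characteristic := by
    rw [Subgroup.characteristic_iff_le_comap]
    intro φ a ha
    have hc := CfsgLib.Transfer.coprime_card_of_isComplement' hKP
    have hq := CfsgLib.Transfer.isPGroup_quotient_of_isComplement' hKP
    rw [Subgroup.mem_comap, CfsgLib.Transfer.mem_iff_coprime_orderOf hc hq, MulEquiv.coe_toMonoidHom,
      MulEquiv.orderOf_eq]
    exact CfsgLib.Transfer.coprime_orderOf_of_mem hc ha
  have hKn : (K.map H.subtype).Normal := CfsgLib.PSolvable.normal_map_of_characteristic H K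
  have hKlt : Nat.card (K.map H.subtype) < n := by
    rw [Nat.card_congr (K.equivMapOfInjective H.subtype H.subtype_injective).toEquiv.symm, ← hn,
      ← K.card_mul_index]
    refine lt_mul_of_one_lt_right Nat.card_pos ?_
    rw [hKP.symm.index_eq_card]
    exact (Subgroup.one_lt_card_iff_ne_bot _).mpr (P.ne_bot_of_dvd_card hrd)
  have hKnil : Group.IsNilpotent ↥(K.map H.subtype) :=
    ih _ hKlt G (K.map H.subtype) x rfl (by rw [Subgroup.normalizer_eq_top]; exact Subgroup.mem_top x)
      fun h hh => hx h (Subgroup.map_subtype_le _ hh)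
  have hKmne : K.map H.subtype ≠ ⊥ := fun h =>
    hKb ((Subgroup.map_eq_bot_iff_of_injective _ H.subtype_injective).mp h)
  obtain ⟨s, hs, hsd⟩ := Nat.exists_prime_and_dvd ((Subgroup.one_lt_card_iff_ne_bot _).mpr hKmne).ne'
  have := Fact.mk hs
  let Q : Sylow s ↥(K.map H.subtype) := default
  have : (Q : Subgroup ↥(K.map H.subtype)).Characteristic :=
    Q.characteristic_of_normal (sylow_normal_of_isNilpotent hKnil Q)
  exact hA s inferInstance _ (CfsgLib.PSolvable.normal_map_of_characteristic (K.map H.subtype) Q)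
    ((Subgroup.map_subtype_le _).trans (Subgroup.map_subtype_le _))
    (fun h => Q.ne_bot_of_dvd_card hsd
      ((Subgroup.map_eq_bot_iff_of_injective _ (Subgroup.subtype_injective _)).mp h))
    (Q.isPGroup'.map _)

/-- **Kegel.** A group normalized by a splitting element of prime order is nilpotent. -/
theorem isNilpotent_of_splitting (H : Subgroup G) (y : G) (hy : y ∈ Subgroup.normalizer (H : Set G))
    (hx : ∀ h ∈ H, (h * y) ^ p = 1) : Group.IsNilpotent H := by
  suffices h : ∀ n, SplitNilp.{u} p n from h _ G H y rfl hy hx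
  intro n
  induction n using Nat.strong_induction_on with
  | _ n ih =>
    intro G _ _ H y hn hy hx
    set M := H ⊔ Subgroup.zpowers y with hM
    have hHM : H ≤ M := le_sup_left
    have hyM : y ∈ M := Subgroup.mem_sup_right (Subgroup.mem_zpowers y)
    have : (H.subgroupOf M).Normal := Subgroup.normal_subgroupOf_of_le_normalizer
      (sup_le Subgroup.le_normalizer (Subgroup.zpowers_le.mpr hy))
    refine isNilpotent_congr (Subgroup.subgroupOfEquivOfLe hHM) ?_
    refine step n ih (H.subgroupOf M) ⟨y, hyM⟩ ?_ ?_ ?_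
    · rw [Nat.card_congr (Subgroup.subgroupOfEquivOfLe hHM).toEquiv, hn]
    · exact fun h hh => Subtype.ext (hx _ hh)
    · apply Subgroup.map_injective M.subtype_injective
      rw [Subgroup.map_sup, Subgroup.map_subgroupOf_eq_of_le hHM, MonoidHom.map_zpowers,
        ← MonoidHom.range_eq_map, Subgroup.range_subtype]
      exact hM.symm

end CfsgLib.Splitting
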